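import Cfsg.Agent.S0949
import Cfsg.Agent.Lib.H29.StrongMetaTwo
import Cfsg.Agent.Lib.Fusion.GroupSystem
import Cfsg.Agent.Lib.Transfer.Frobenius
import Cfsg.Agent.Lib.TwoFusion.IndexTwo
import Cfsg.Agent.Lib.Core.Basic
import Cfsg.Agent.Lib.PGroups.MetacyclicAut

/-!
# Metacyclic Sylow `2`-subgroups with a large cyclic quotient

Let `S` be a Sylow `2`-subgroup of `G` with a cyclic normal subgroup `N` such that `S / N` is cyclic of
order `> 2`. Assuming odd order groups are soluble, `G` is soluble: either `S` is homocyclic and the theorem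
of Brauer (`S0949`) applies to `G / O(G)`, or the fusion of `S` in `G` is trivial and Frobenius' theorem
gives a normal `2`-complement.
-/

set_option autoImplicit false

namespace Cfsg.Agent.Lib.MetaSyl2.Main

open Cfsg

universe u

section quotient

variable {S : Type*} [Group S] {N : Subgroup S} [N.Normal]

/-- A cyclic group of order `> 2` has an element whose square is not `1`. -/
theorem not_all_sq (hQc : IsCyclic (S ⧸ N)) (hQ : 2 < Nat.card (S ⧸ N)) :
    ¬ ∀ s : S, ((s : S ⧸ N)) ^ 2 = 1 := by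
  intro h
  obtain ⟨g, hg⟩ := hQc
  have hfin : Finite (S ⧸ N) := Nat.finite_of_card_ne_zero (by omega)
  have hord : orderOf g = Nat.card (S ⧸ N) := orderOf_eq_card_of_forall_mem_zpowers hg
  obtain ⟨s, rfl⟩ := QuotientGroup.mk_surjective g
  have h1 := orderOf_dvd_of_pow_eq_one (h s)
  have h2 := Nat.le_of_dvd (by norm_num) h1
  omega

theorem comm_of_cyclic (hQc : IsCyclic (S ⧸ N)) (a b : S ⧸ N) : a * b = b * a := by
  letI := IsCyclic.commGroup (α := S ⧸ N)
  exact mul_comm a b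

theorem mul_sq (hQc : IsCyclic (S ⧸ N)) (a b : S ⧸ N) : (a * b) ^ 2 = a ^ 2 * b ^ 2 :=
  (show Commute a b from comm_of_cyclic hQc a b).mul_pow 2

/-- The elements whose image in the quotient has square one. -/
def sqSub (hQc : IsCyclic (S ⧸ N)) : Subgroup S where
  carrier := {s | ((s : S ⧸ N)) ^ 2 = 1}
  mul_mem' := by
    intro a b ha hb
    simp only [Set.mem_setOf_eq] at ha hb ⊢
    rw [QuotientGroup.mk_mul, mul_sq hQc, ha, hb, one_mul]
  one_mem' := by simp
  inv_mem' := by
    intro a ha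
    simp only [Set.mem_setOf_eq] at ha ⊢
    rw [QuotientGroup.mk_inv, inv_pow, ha, inv_one]

theorem mem_sqSub (hQc : IsCyclic (S ⧸ N)) {s : S} : s ∈ sqSub hQc ↔ ((s : S ⧸ N)) ^ 2 = 1 := Iff.rfl

/-- The group is not dihedral. -/
theorem not_dihedral (hQc : IsCyclic (S ⧸ N)) (hQ : 2 < Nat.card (S ⧸ N)) (m : ℕ) :
    IsEmpty (S ≃* DihedralGroup m) := by
  refine ⟨fun e => not_all_sq hQc hQ ?_⟩
  have hsr : ∀ i, e.symm (DihedralGroup.sr i) ∈ sqSub hQc := by
    intro i
    rw [mem_sqSub, ← QuotientGroup.mk_pow, ← map_pow, sq, DihedralGroup.sr_mul_self, map_one]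
    rfl
  intro s
  rw [← mem_sqSub hQc]
  have hs : s = e.symm (e s) := (e.symm_apply_apply s).symm
  rw [hs]
  generalize e s = d
  cases d with
  | r i =>
    have h : (DihedralGroup.r i : DihedralGroup m) = DihedralGroup.sr 0 * DihedralGroup.sr i := by
      rw [DihedralGroup.sr_mul_sr, sub_zero]
    rw [h, map_mul]
    exact (sqSub hQc).mul_mem (hsr _) (hsr _)
  | sr i => exact hsr i

/-- The group is not generalized quaternion with parameter even. -/
theorem not_quaternion (hQc : IsCyclic (S ⧸ N)) (hQ : 2 < Nat.card (S ⧸ N)) {m : ℕ} (hm : Even m) :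
    IsEmpty (S ≃* QuaternionGroup m) := by
  refine ⟨fun e => not_all_sq hQc hQ ?_⟩
  have ha : ∀ i, e.symm (QuaternionGroup.a i) ∈ sqSub hQc := by
    intro i
    rw [mem_sqSub]
    have h1 : (QuaternionGroup.a i : QuaternionGroup m) * QuaternionGroup.xa 0 =
        QuaternionGroup.xa 0 * QuaternionGroup.a (-i) := by
      rw [QuaternionGroup.a_mul_xa, QuaternionGroup.xa_mul_a]
      simp
    have h2 := congrArg (fun d => ((e.symm d : S) : S ⧸ N)) h1
    simp only [map_mul, QuotientGroup.mk_mul] at h2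
    rw [comm_of_cyclic hQc] at h2
    have h3 := mul_left_cancel h2
    have h4 : (QuaternionGroup.a (-i) : QuaternionGroup m) = (QuaternionGroup.a i)⁻¹ := rfl
    rw [h4, map_inv, QuotientGroup.mk_inv] at h3
    rw [sq]
    nth_rewrite 1 [h3]
    simp
  intro s
  rw [← mem_sqSub hQc]
  have hs : s = e.symm (e s) := (e.symm_apply_apply s).symm
  rw [hs]
  generalize e s = d
  cases d with
  | a i => exact ha i
  | xa i =>
    rw [mem_sqSub, ← QuotientGroup.mk_pow, ← map_pow, sq, QuaternionGroup.xa_mul_xa]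
    obtain ⟨k, rfl⟩ := hm
    have h5 : (QuaternionGroup.a (((k + k : ℕ) : ZMod (2 * (k + k))) + i - i) : QuaternionGroup (k + k)) =
        QuaternionGroup.a k * QuaternionGroup.a k := by
      rw [QuaternionGroup.a_mul_a]
      congr 1
      push_cast
      ring
    rw [h5, map_mul, QuotientGroup.mk_mul, ← sq]
    exact ha _

/-- The group is not quasi-dihedral. -/
theorem not_quasiDihedral [Finite S] (hS : IsPGroup 2 S) (hQc : IsCyclic (S ⧸ N))
    (hQ : 2 < Nat.card (S ⧸ N)) : ¬ Cfsg.IsQuasiDihedral S := by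
  rintro ⟨n, hn, hcard, x, y, hx, hy, hyx⟩
  haveI : Fact (Nat.Prime 2) := ⟨Nat.prime_two⟩
  apply not_all_sq hQc hQ
  -- the image of `y`
  have hyS : y ∈ sqSub hQc := by
    rw [mem_sqSub, ← QuotientGroup.mk_pow, ← hy, pow_orderOf_eq_one]
    rfl
  -- the image of `x`
  obtain ⟨n', rfl⟩ : ∃ n', n = n' + 3 := ⟨n - 3, by omega⟩
  have hxS : x ∈ sqSub hQc := by
    rw [mem_sqSub]
    have h1 := congrArg (fun d : S => (d : S ⧸ N)) hyx
    simp only [QuotientGroup.mk_mul, QuotientGroup.mk_inv, QuotientGroup.mk_pow] at h1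
    rw [comm_of_cyclic hQc (y : S ⧸ N), mul_inv_cancel_right] at h1
    -- `x̄ = x̄ ^ (2 ^ (n-1) - 1)`, so `(x̄ ^ 2) ^ (2 ^ (n-2) - 1) = 1`
    have e2 : 2 ^ (n' + 3 - 1) - 1 = 1 + 2 * (2 * 2 ^ n' - 1) := by
      have : 1 ≤ 2 ^ n' := Nat.one_le_two_pow
      have h2 : 2 ^ (n' + 3 - 1) = 4 * 2 ^ n' := by
        rw [show n' + 3 - 1 = n' + 2 by omega, pow_add]; ring
      omega
    rw [e2, pow_add, pow_one, pow_mul] at h1
    have h3 : ((x : S ⧸ N) ^ 2) ^ (2 * 2 ^ n' - 1) = 1 := by
      exact (mul_eq_left.mp h1.symm)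
    have hodd : Odd (2 * 2 ^ n' - 1) := by
      have : 1 ≤ 2 ^ n' := Nat.one_le_two_pow
      exact ⟨2 ^ n' - 1, by omega⟩
    have hp : IsPGroup 2 (S ⧸ N) := hS.to_quotient N
    have h4 : orderOf ((x : S ⧸ N) ^ 2) ∣ 2 * 2 ^ n' - 1 := orderOf_dvd_of_pow_eq_one h3
    obtain ⟨k, hk⟩ := IsPGroup.iff_orderOf.1 hp ((x : S ⧸ N) ^ 2)
    rw [hk] at h4
    have h5 : k = 0 := by
      by_contra hk0
      have h6 : 2 ∣ 2 ^ k := dvd_pow_self 2 hk0
      have h7 := h6.trans h4
      exact (Nat.not_even_iff_odd.mpr hodd) (even_iff_two_dvd.mpr h7)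
    rw [h5, pow_zero, orderOf_eq_one_iff] at hk
    exact hk
  -- `x` and `y` generate
  have hcardx : Nat.card (Subgroup.zpowers x) = 2 ^ (n' + 3) := by
    rw [Nat.card_zpowers, hx]
  have hle : Subgroup.zpowers x ≤ sqSub hQc := by
    rw [Subgroup.zpowers_le]
    exact hxS
  have hynot : y ∉ Subgroup.zpowers x := by
    intro hyz
    obtain ⟨k, rfl⟩ := Subgroup.mem_zpowers_iff.mp hyz
    have h1 : x ^ k * x * (x ^ k)⁻¹ = x := by
      have hc : Commute (x ^ k) x := (Commute.refl x).zpow_left k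
      rw [hc.eq, mul_inv_cancel_right]
    rw [h1] at hyx
    have h2 : x ^ (2 ^ (n' + 3 - 1) - 2) = 1 := by
      have h3 : 2 ^ (n' + 3 - 1) - 1 = (2 ^ (n' + 3 - 1) - 2) + 1 := by
        have : 4 ≤ 2 ^ (n' + 3 - 1) := by
          rw [show n' + 3 - 1 = n' + 2 by omega, pow_add]
          have : 1 ≤ 2 ^ n' := Nat.one_le_two_pow
          nlinarith
        omega
      rw [h3, pow_succ] at hyx
      exact (mul_eq_right.mp hyx.symm)
    have h4 := orderOf_dvd_of_pow_eq_one h2
    rw [hx] at h4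
    have h5 : 2 ^ (n' + 3 - 1) = 4 * 2 ^ n' := by
      rw [show n' + 3 - 1 = n' + 2 by omega, pow_add]; ring
    have h6 : 2 ^ (n' + 3) = 8 * 2 ^ n' := by
      rw [pow_add]; ring
    rw [h5, h6] at h4
    have hpos : 1 ≤ 2 ^ n' := Nat.one_le_two_pow
    have h7 := Nat.le_of_dvd (by omega) h4
    omega
  have hlt : Subgroup.zpowers x < sqSub hQc := by
    refine lt_of_le_of_ne hle ?_
    intro he
    exact hynot (he ▸ hyS)
  have hcl : Nat.card (Subgroup.zpowers x) < Nat.card (sqSub hQc) :=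
    Cfsg.Agent.Lib.Transfer.Frobenius.card_lt_card_of_lt hlt
  have hdvd : Nat.card (sqSub hQc) ∣ 2 ^ (n' + 3 + 1) := by
    rw [← hcard]
    exact Subgroup.card_subgroup_dvd_card _
  obtain ⟨j, hj, hje⟩ := (Nat.dvd_prime_pow Nat.prime_two).1 hdvd
  rw [hcardx, hje] at hcl
  have hj2 : n' + 3 < j := (Nat.pow_lt_pow_iff_right (by norm_num)).1 hcl
  have hj3 : j = n' + 3 + 1 := by omega
  have htop : sqSub hQc = ⊤ := by
    apply Subgroup.eq_top_of_card_eq
    rw [hje, hj3, hcard]
  intro s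
  rw [← mem_sqSub hQc, htop]
  exact Subgroup.mem_top s

end quotient

section main

open Cfsg.Agent.Lib.Fusion.Basic Cfsg.Agent.Lib.Fusion.Saturation Cfsg.Agent.Lib.Fusion.Saturation2
  Cfsg.Agent.Lib.Fusion.Alperin Cfsg.FusionSystem Cfsg.Agent.Lib.FusionTheory.Normal in
/-- The metacyclic fusion theorem `S5212`, for a group whose automorphism group is a `2`-group. -/
theorem inner_of_aut {Ω : Type*} [Group Ω] {S : Subgroup Ω} [Finite S] (hS : IsPGroup 2 S)
    (F : Cfsg.FusionSystem S) (hF : F.IsSaturated 2) (hm : Cfsg.IsMetacyclic ↥S)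
    (hd : ¬ ∃ m : ℕ, Nonempty (↥S ≃* DihedralGroup m)) (hq : ¬ ∃ m : ℕ, Nonempty (↥S ≃* QuaternionGroup m))
    (hsd : ¬ Cfsg.IsQuasiDihedral ↥S) (hA : IsPGroup 2 (MulAut ↥S)) :
    ∀ P : Subgroup Ω, F.Hom P = (Cfsg.innerFusionSystem S).Hom P := by
  classical
  haveI : Fact (Nat.Prime 2) := ⟨Nat.prime_two⟩
  have hSc : F.StronglyClosed S := by
    refine ⟨le_rfl, ?_⟩
    intro T hT φ hφ t
    exact val_mem F hφ t
  intro P
  apply Set.Subset.antisymm
  · refine alperin_goldschmidt F hS hF (Cfsg.innerFusionSystem S) ?_ P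
    intro P hP α hα
    have hPS : P = S := by
      rcases hP with h | hE
      · exact h
      · exact le_antisymm hE.1.1 (le_of_normalizer_le hS hSc.1 (StronglyClosed.le_normalizer F hSc) hE.1.1
          (fun s hs hsn => Cfsg.Agent.Lib.H29.StrongMetaTwo.mem_of_mem_of_normalizer_two hS F hSc hm hd hq hsd hE hs hsn))
    subst hPS
    have hfn : F.IsFullyNormalized P := isFullyNormalized_top F hS
    have hpg : IsPGroup 2 (F.autGroup P) := hA.to_subgroup _
    rw [autGroup_eq_of_isPGroup F hS hF hfn hpg] at hα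
    obtain ⟨g, hg, hgα⟩ := (mem_autInducedBy_iff P P α).1 hα
    rw [mem_autGroup_iff _ hfn.1]
    exact ⟨hfn.1, g, hg, hgα⟩
  · exact inner_le F P

variable {G : Type u} [Group G] [Finite G]

/-- Conjugation by an element of odd order normalizing `Q` and agreeing with conjugation by a `2`-element
is trivial. -/
theorem conj_trivial {Q : Subgroup G} {g s : G} (hg : g ∈ Subgroup.normalizer (Q : Set G))
    (hco : Nat.Coprime (orderOf g) 2) {a : ℕ} (hs : s ^ 2 ^ a = 1)
    (h : ∀ x ∈ Q, g * x * g⁻¹ = s * x * s⁻¹) : ∀ x ∈ Q, g * x * g⁻¹ = x := by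
  have hmem : ∀ x ∈ Q, g * x * g⁻¹ ∈ Q := fun x hx => (Subgroup.mem_normalizer_iff.mp hg x).mp hx
  have hpow : ∀ k : ℕ, ∀ x ∈ Q, g ^ k * x * (g ^ k)⁻¹ = s ^ k * x * (s ^ k)⁻¹ := by
    intro k
    induction k with
    | zero => intro x _; simp
    | succ k ih =>
      intro x hx
      have h1 := ih _ (hmem x hx)
      rw [h x hx] at h1
      rw [pow_succ, pow_succ]
      calc g ^ k * g * x * (g ^ k * g)⁻¹ = g ^ k * (g * x * g⁻¹) * (g ^ k)⁻¹ := by group
        _ = s ^ k * (s * x * s⁻¹) * (s ^ k)⁻¹ := by rw [h x hx]; exact h1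
        _ = s ^ k * s * x * (s ^ k * s)⁻¹ := by group
  have hk : Nat.Coprime (orderOf g) (2 ^ (a + 1)) := Nat.Coprime.pow_right _ hco
  have hk1 : 1 < 2 ^ (a + 1) := Nat.one_lt_two_pow (by omega)
  obtain ⟨m, -, hm⟩ := Nat.exists_mul_mod_eq_one_of_coprime hk hk1
  have hs' : s ^ 2 ^ (a + 1) = 1 := by
    rw [pow_succ, pow_mul, hs, one_pow]
  have hs1 : s ^ (orderOf g * m) = s := by
    rw [pow_eq_pow_mod _ hs', hm, pow_one]
  have hg1 : g ^ (orderOf g * m) = 1 := by
    rw [pow_mul, pow_orderOf_eq_one, one_pow]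
  intro x hx
  have h1 := hpow (orderOf g * m) x hx
  rw [hg1, hs1] at h1
  rw [h x hx, ← h1]
  group

/-- Inner fusion gives the Frobenius criterion. -/
theorem complement_of_inner (S : Sylow 2 G)
    (hin : ∀ P : Subgroup G, (Cfsg.groupFusionSystem (S : Subgroup G)).Hom P =
      (Cfsg.innerFusionSystem (S : Subgroup G)).Hom P) :
    ∃ N : Subgroup G, N.Normal ∧ N.IsComplement' (S : Subgroup G) := by
  rw [Cfsg.Agent.Lib.Transfer.Frobenius.exists_normal_complement_iff S]
  intro Q hQ g hg hco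
  have hmem : ∀ x : Q, g * (x : G) * g⁻¹ ∈ (S : Subgroup G) := fun x =>
    hQ ((Subgroup.mem_normalizer_iff.mp hg x).mp x.2)
  have h1 : Cfsg.conjHom Q g ∈ (Cfsg.groupFusionSystem (S : Subgroup G)).Hom Q :=
    ⟨hQ, hmem, g, fun x => rfl⟩
  rw [hin] at h1
  obtain ⟨-, s, hs, hv⟩ := h1
  obtain ⟨a, ha⟩ := IsPGroup.iff_orderOf.1 S.isPGroup' ⟨s, hs⟩
  have hs2 : s ^ 2 ^ a = 1 := by
    have h2 := pow_orderOf_eq_one (⟨s, hs⟩ : (S : Subgroup G))
    rw [ha] at h2
    exact congrArg Subtype.val h2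
  have h3 := conj_trivial hg hco hs2 (fun x hx => hv ⟨x, hx⟩)
  rw [Subgroup.mem_centralizer_iff]
  intro x hx
  have h4 := h3 x hx
  exact (mul_inv_eq_iff_eq_mul.mp h4).symm

variable (ft : ∀ (H : Type u) [Group H] [Finite H], Odd (Nat.card H) → Group.IsSolvable H)
include ft

/-- A normal `2`-complement gives solubility. -/
theorem solvable_of_complement (S : Sylow 2 G) {N : Subgroup G} (hN : N.Normal)
    (hc : N.IsComplement' (S : Subgroup G)) : Group.IsSolvable G := by
  haveI : Fact (Nat.Prime 2) := ⟨Nat.prime_two⟩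
  have hodd : Odd (Nat.card N) := by
    have h1 : (S : Subgroup G).index = Nat.card N := hc.index_eq_card
    rw [← h1, ← Nat.not_even_iff_odd, even_iff_two_dvd]
    exact S.not_dvd_index
  haveI hsN : Group.IsSolvable N := ft N hodd
  have h2 : IsPGroup 2 (G ⧸ N) := by
    have h3 : Nat.card (G ⧸ N) = Nat.card (S : Subgroup G) := by
      have h1 : N.index = Nat.card (S : Subgroup G) := hc.symm.index_eq_card
      exact h1
    obtain ⟨k, hk⟩ := IsPGroup.iff_card.1 S.isPGroup'
    exact IsPGroup.iff_card.2 ⟨k, h3.trans hk⟩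
  haveI : Group.IsNilpotent (G ⧸ N) := h2.isNilpotent
  haveI : Group.IsSolvable (G ⧸ N) := inferInstance
  exact solvable_of_ker_le_range N.subtype (QuotientGroup.mk' N) (by
    rw [QuotientGroup.ker_mk', Subgroup.range_subtype])

open Cfsg.Agent.Lib.Core.Basic in
/-- The homocyclic case, by the theorem of Brauer. -/
theorem solvable_of_homocyclic (S : Sylow 2 G) {m : ℕ} (hm : 2 ≤ m)
    (e : (S : Subgroup G) ≃* Multiplicative (ZMod (2 ^ m) × ZMod (2 ^ m))) : Group.IsSolvable G := by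
  classical
  haveI : Fact (Nat.Prime 2) := ⟨Nat.prime_two⟩
  set O : Subgroup G := Cfsg.pPrimeCore 2 G with hOdef
  haveI hOn : O.Normal := Cfsg.pPrimeCore_normal 2 G
  have hcop : (Nat.card O).Coprime 2 := pPrimeCore_coprime
  have hOodd : Odd (Nat.card O) := by
    rw [← Nat.not_even_iff_odd, even_iff_two_dvd]
    intro h
    have := Nat.dvd_gcd h (dvd_refl 2)
    rw [hcop.gcd_eq_one] at this
    omega
  haveI : Group.IsSolvable O := ft O hOodd
  let f : G →* G ⧸ O := QuotientGroup.mk' O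
  have hf : Function.Surjective f := QuotientGroup.mk'_surjective O
  let P : Sylow 2 (G ⧸ O) := S.mapSurjective hf
  have hcoe : (P : Subgroup (G ⧸ O)) = (S : Subgroup G).map f := Sylow.coe_mapSurjective hf S
  have hinf : (S : Subgroup G) ⊓ O = ⊥ := inf_eq_bot_of_isPGroup_of_coprime S.isPGroup' hcop
  have hbij : Function.Bijective (f.subgroupMap (S : Subgroup G)) := by
    refine ⟨?_, f.subgroupMap_surjective _⟩
    rw [injective_iff_map_eq_one]
    rintro ⟨x, hx⟩ h1
    have h2 : f x = 1 := congrArg Subtype.val h1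
    have h3 : x ∈ O := (QuotientGroup.eq_one_iff x).mp h2
    have h4 : x ∈ (S : Subgroup G) ⊓ O := ⟨hx, h3⟩
    rw [hinf, Subgroup.mem_bot] at h4
    exact Subtype.ext h4
  let e₁ : (S : Subgroup G) ≃* (S : Subgroup G).map f := MulEquiv.ofBijective _ hbij
  let e₂ : (P : Subgroup (G ⧸ O)) ≃* (S : Subgroup G).map f := MulEquiv.subgroupCongr hcoe
  have hO : ∀ N : Subgroup (G ⧸ O), N.Normal → Odd (Nat.card N) → N = ⊥ := by
    intro N hN hodd
    have h1 : N ≤ Cfsg.pPrimeCore 2 (G ⧸ O) := le_pPrimeCore hN (Nat.coprime_two_right.mpr hodd)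
    have h2 : Cfsg.pPrimeCore 2 (G ⧸ O) = ⊥ := pPrimeCore_quotient_eq_bot
    rw [h2] at h1
    exact le_bot_iff.mp h1
  obtain ⟨hPn, -, hidx⟩ := Cfsg.Agent.S0949.result P m hm (e₂.trans (e₁.symm.trans e)) (by
    simpa [hOdef] using hO)
  haveI := hPn
  have hPp : IsPGroup 2 (P : Subgroup (G ⧸ O)) := P.isPGroup'
  haveI : Group.IsNilpotent (P : Subgroup (G ⧸ O)) := hPp.isNilpotent
  haveI : Group.IsSolvable (P : Subgroup (G ⧸ O)) := inferInstance
  have hcyc : IsCyclic ((G ⧸ O) ⧸ (P : Subgroup (G ⧸ O))) := by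
    rcases hidx with h | h
    · have h1 : Nat.card ((G ⧸ O) ⧸ (P : Subgroup (G ⧸ O))) = 1 := h
      haveI := (Nat.card_eq_one_iff_unique.mp h1).1
      exact isCyclic_of_subsingleton
    · have h1 : Nat.card ((G ⧸ O) ⧸ (P : Subgroup (G ⧸ O))) = 3 := h
      haveI : Fact (Nat.Prime 3) := ⟨Nat.prime_three⟩
      exact isCyclic_of_prime_card h1
  haveI : Group.IsSolvable ((G ⧸ O) ⧸ (P : Subgroup (G ⧸ O))) :=
    isSolvable_of_comm (comm_of_cyclic hcyc)
  haveI : Group.IsSolvable (G ⧸ O) :=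
    solvable_of_ker_le_range (P : Subgroup (G ⧸ O)).subtype (QuotientGroup.mk' (P : Subgroup (G ⧸ O))) (by
      rw [QuotientGroup.ker_mk', Subgroup.range_subtype])
  exact solvable_of_ker_le_range O.subtype (QuotientGroup.mk' O) (by
    rw [QuotientGroup.ker_mk', Subgroup.range_subtype])

/-- **S4418**, given the odd order theorem. -/
theorem main (S : Sylow 2 G) (N : Subgroup ↥(S : Subgroup G)) [hN : N.Normal] (hNc : IsCyclic N)
    (hQc : IsCyclic (↥(S : Subgroup G) ⧸ N)) (hQ : 2 < Nat.card (↥(S : Subgroup G) ⧸ N)) :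
    Group.IsSolvable G := by
  classical
  haveI : Fact (Nat.Prime 2) := ⟨Nat.prime_two⟩
  have hm : Cfsg.IsMetacyclic ↥(S : Subgroup G) := ⟨N, hN, hNc, hQc⟩
  have hS : IsPGroup 2 (S : Subgroup G) := S.isPGroup'
  by_cases hcyc : IsCyclic (S : Subgroup G)
  · obtain ⟨T, K, hK, hc⟩ := Cfsg.Agent.Lib.TwoFusion.IndexTwo.hasNormalTwoComplement_of_cyclic S hcyc
    exact solvable_of_complement ft T hK hc
  by_cases hA : IsPGroup 2 (MulAut (S : Subgroup G))
  · have hd : ¬ ∃ m : ℕ, Nonempty (↥(S : Subgroup G) ≃* DihedralGroup m) :=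
      fun ⟨m, ⟨e⟩⟩ => (not_dihedral hQc hQ m).false e
    have hq : ¬ ∃ m : ℕ, Nonempty (↥(S : Subgroup G) ≃* QuaternionGroup m) := by
      rintro ⟨m, ⟨e⟩⟩
      rcases Nat.even_or_odd m with h | h
      · exact (not_quaternion hQc hQ h).false e
      · apply hcyc
        haveI : NeZero m := ⟨fun h0 => by simp [h0] at h⟩
        obtain ⟨k, hk⟩ := IsPGroup.iff_card.1 hS
        have h1 : Nat.card (S : Subgroup G) = 4 * m := by
          rw [Nat.card_congr e.toEquiv, Nat.card_eq_fintype_card, QuaternionGroup.card]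
        have h2 : m ∣ 2 ^ k := by
          rw [← hk, h1]
          exact dvd_mul_left _ _
        obtain ⟨j, -, hj⟩ := (Nat.dvd_prime_pow Nat.prime_two).1 h2
        have hm1 : m = 1 := by
          rcases Nat.eq_zero_or_pos j with rfl | hj0
          · simpa using hj
          · exfalso
            rw [hj] at h
            exact (Nat.not_odd_iff_even.mpr ((Nat.even_pow' (by omega)).mpr even_two)) h
        subst hm1
        haveI := QuaternionGroup.quaternionGroup_one_isCyclic
        exact isCyclic_of_surjective e.symm e.symm.surjective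
    have hsd := not_quasiDihedral hS hQc hQ
    have hin := inner_of_aut hS (Cfsg.groupFusionSystem (S : Subgroup G))
      (Cfsg.Agent.Lib.Fusion.GroupSystem.isSaturated S) hm hd hq hsd hA
    obtain ⟨K, hK, hc⟩ := complement_of_inner S hin
    exact solvable_of_complement ft S hK hc
  · rcases Cfsg.Agent.Lib.PGroups.MetacyclicAut.main hS hm hA with ⟨⟨e⟩⟩ | ⟨n, ⟨e⟩⟩
    · exact ((not_quaternion hQc hQ (by decide)).false e).elim
    · have hn : 2 ≤ n := by
        by_contra hn
        apply not_all_sq hQc hQ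
        intro s
        have h1 : s ^ 2 = 1 := by
          apply e.injective
          rw [map_pow, map_one]
          obtain ⟨a, b⟩ := e s
          have key : ∀ c : ZMod (2 ^ n), 2 • c = 0 := by
            intro c
            interval_cases n
            · revert c
              decide
            · revert c
              decide
          ext
          · exact key _
          · exact key _
        rw [← QuotientGroup.mk_pow, h1]
        rfl
      exact solvable_of_homocyclic ft S hn (e.trans (MulEquiv.prodMultiplicative _ _).symm)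

end main

end Cfsg.Agent.Lib.MetaSyl2.Main
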